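import Cfsg.Agent.Helper36.F4Mix.P_EV
import Cfsg.Agent.Helper36.F4Mix.P_PU

/-!
Helper36, S2179, piece (CB), insurance copy: the centralizers in `B` of the two involutions.
-/

set_option autoImplicit false
set_option maxRecDepth 100000

namespace Cfsg.Agent.Helper36.F4MixAlt

open Cfsg Cfsg.Lie Cfsg.Agent.Helper18 Cfsg.Agent.Helper36.F4Mix
  Cfsg.Agent.Helper36.LongRootCent Cfsg.Agent.Helper36.RootCent

variable {F : Type*} [Field F]

local notation "hF4" => Cfsg.Agent.Helper36.SigmaF4.hF4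

/-- the data of an element of `H` -/
theorem torus_data (h : GL chevF4.Idx F) (hh : h ∈ chevF4.diagonalSubgroup F) :
    ∃ (χ c : ℕ → F), (∀ s, χ s ≠ 0) ∧ (∀ i, c i ≠ 0) ∧
      (∀ r < 48, ∀ t : F, h * xGL chevF4 F r t = xGL chevF4 F r (χ r * t) * h) ∧
      (∀ r < 48, χ r = ∏ i ∈ Finset.range 4, c i ^ chevF4.cartan i r) ∧
      h = wordGL chevF4 F ((List.range 4).flatMap fun i => chevF4.hWord (chevF4.simple i) (c i)) := by
  have htri := triOK_of_mem chevF4 hF4
  obtain ⟨χ, hχ0, hdiag, hcj⟩ := diagonalSubgroup_char chevF4 hF4 h hh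
  obtain ⟨c, hc0, hhc⟩ := diagonalSubgroup_le_hProdSubgroup chevF4 hF4 hh
  refine ⟨χ, c, hχ0, hc0, hcj, ?_, ?_⟩
  · intro r hr
    have e1 : Matrix.diagonal (Sum.elim (fun _ => (1 : F)) (fun s : Fin chevF4.nroots => χ s.val)) =
        hProd chevF4 F c := by rw [← hdiag, hhc]
    unfold hProd at e1
    have e2 := congrFun (Matrix.diagonal_injective e1) (Sum.inr ⟨r, hr⟩)
    simp only [Sum.elim_inr] at e2
    rw [e2]
    exact Cfsg.Agent.Helper36.LongRootCent.range_map_prod _ _
  · apply Units.ext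
    rw [wordGL_val chevF4 _ htri, hhc]
    exact (hProd_of_words chevF4 hF4 c (fun i _ => hc0 i)).symm

/-- conjugation of `ev A c` by an element of `H` -/
theorem diag_ev (h : GL chevF4.Idx F) (χ : ℕ → F)
    (hcj : ∀ r < 48, ∀ t : F, h * xGL chevF4 F r t = xGL chevF4 F r (χ r * t) * h)
    (A : List ℕ) (hA : ∀ r ∈ A, r < 48) (c : ℕ → F) :
    h * ev A c = ev A (fun r => χ r * c r) * h := by
  induction A with
  | nil => simp [ev_nil]
  | cons r A ih =>
    have hA' : ∀ s ∈ A, s < 48 := fun s hs => hA s (List.mem_cons_of_mem _ hs)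
    rw [ev_cons, ev_cons, ← mul_assoc, hcj r (hA r List.mem_cons_self), mul_assoc, ih hA', mul_assoc]

/-- `B = U H` -/
theorem borel_decomp (x : GL chevF4.Idx F) (hx : x ∈ chevF4.borelSubgroup F) :
    ∃ u ∈ chevF4.posUnipotent F, ∃ h ∈ chevF4.diagonalSubgroup F, x = u * h := by
  have h1 : x ∈ ((chevF4.posUnipotent F ⊔ chevF4.diagonalSubgroup F : Subgroup (GL chevF4.Idx F)) :
      Set (GL chevF4.Idx F)) := hx
  rw [Subgroup.coe_mul_of_right_le_normalizer_left _ _
    (Cfsg.Agent.S1036.result (F := F) chevF4 hF4).1] at h1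
  obtain ⟨u, hu, h, hh, rfl⟩ := Set.mem_mul.mp h1
  exact ⟨u, hu, h, hh, rfl⟩

theorem posRoots_eq : chevF4.posRoots = List.range' 24 24 := by decide +kernel

/-- an element of `U` as an ordered product -/
theorem pos_eq_ev (u : GL chevF4.Idx F) (hu : u ∈ chevF4.posUnipotent F) :
    ∃ t : ℕ → F, u = ev chevF4.posRoots t := by
  obtain ⟨φ, wit, hg, -⟩ := Cfsg.Agent.Helper40.UData.exists_grade chevF4 hF4
  obtain ⟨t, ht⟩ := Cfsg.Agent.Helper40.UProd.exists_pw (F := F) hF4 hg u hu
  refine ⟨t, ?_⟩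
  apply Units.ext
  rw [ht]
  exact (PU_prod_val chevF4.posRoots t).symm

section Char2

variable [CharP F 2]

/-- pushing `ev A2 c` through an ordered product -/
noncomputable def push2 (L : List ℕ) (t : ℕ → F) (c : ℕ → F) : ℕ → F :=
  L.foldr (fun s acc => act2 s (t s) acc) c

theorem ev_push2 (L : List ℕ) (hL : ∀ s ∈ L, chevF4.IsPosRoot s) (t c : ℕ → F) :
    ev L t * ev A2 c = ev A2 (push2 L t c) * ev L t := by
  induction L with
  | nil => simp [ev_nil, push2]
  | cons s L ih =>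
    have hL' : ∀ r ∈ L, chevF4.IsPosRoot r := fun r hr => hL r (List.mem_cons_of_mem _ hr)
    have e : push2 (s :: L) t c = act2 s (t s) (push2 L t c) := rfl
    rw [ev_cons, mul_assoc, ih hL', ← mul_assoc, ev_conj2 s (hL s List.mem_cons_self), e, mul_assoc]

theorem ev_comm1 (L : List ℕ) (hL : ∀ s ∈ L, chevF4.IsPosRoot s) (t c : ℕ → F) :
    ev L t * ev A1 c = ev A1 c * ev L t := by
  induction L with
  | nil => simp [ev_nil]
  | cons s L ih =>
    have hL' : ∀ r ∈ L, chevF4.IsPosRoot r := fun r hr => hL r (List.mem_cons_of_mem _ hr)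
    rw [ev_cons, mul_assoc, ih hL', ← mul_assoc, ev_conj1 s (hL s List.mem_cons_self), mul_assoc]

theorem pos_mem_posRoots : ∀ s ∈ chevF4.posRoots, chevF4.IsPosRoot s := by
  intro s hs
  exact (Cfsg.Agent.Helper40.UProd.mem_posRoots chevF4 s).mp hs

theorem pos_A1' : ∀ r ∈ A1, chevF4.IsPosRoot r := by decide +kernel
theorem pos_A2' : ∀ r ∈ A2, chevF4.IsPosRoot r := by decide +kernel

theorem xGL_mem_R2_pos (r : ℕ) (hr : chevF4.IsPosRoot r) (hn : r ∉ [27, 25, 34, 26]) (a : F) :
    xGL chevF4 F r a ∈ R2 F := by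
  unfold R2
  apply Subgroup.mem_sup_right
  apply Subgroup.subset_closure
  exact ⟨r, a, hr, hn, xGL_val chevF4 _ (triOK_of_mem chevF4 hF4) r a⟩

theorem xGL_mem_R2_14 (a : F) : xGL chevF4 F 14 a ∈ R2 F := by
  unfold R2
  refine Subgroup.mem_sup_left (Subgroup.mem_sup_left (Subgroup.mem_sup_left (Subgroup.mem_sup_right ?_)))
  exact Cfsg.Agent.Helper19.Poinc.xGL_mem_rootSubgroup chevF4 hF4 14 a

theorem xGL_mem_R2_23 (a : F) : xGL chevF4 F 23 a ∈ R2 F := by
  unfold R2
  refine Subgroup.mem_sup_left (Subgroup.mem_sup_right ?_)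
  exact Cfsg.Agent.Helper19.Poinc.xGL_mem_rootSubgroup chevF4 hF4 23 a

theorem xGL_mem_R1_pos (r : ℕ) (hr : chevF4.IsPosRoot r) (a : F) : xGL chevF4 F r a ∈ R1 F := by
  unfold R1
  refine Subgroup.mem_sup_left (Subgroup.mem_sup_left ?_)
  exact Subgroup.subset_closure ⟨r, a, hr, xGL_val chevF4 _ (triOK_of_mem chevF4 hF4) r a⟩

theorem xGL_mem_R1_20 (a : F) : xGL chevF4 F 20 a ∈ R1 F := by
  unfold R1
  refine Subgroup.mem_sup_left (Subgroup.mem_sup_right ?_)
  exact Cfsg.Agent.Helper19.Poinc.xGL_mem_rootSubgroup chevF4 hF4 20 a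

theorem xGL_mem_R1_22 (a : F) : xGL chevF4 F 22 a ∈ R1 F := by
  unfold R1
  refine Subgroup.mem_sup_right ?_
  exact Cfsg.Agent.Helper19.Poinc.xGL_mem_rootSubgroup chevF4 hF4 22 a

theorem hWord_letters (i : ℕ) (a : F) (p : ℕ × F) (hp : p ∈ chevF4.hWord (chevF4.simple i) a) :
    p.1 = chevF4.simple i ∨ p.1 = chevF4.neg (chevF4.simple i) := by
  simp only [ChevalleyDatum.hWord, ChevalleyDatum.nWord, List.cons_append, List.nil_append,
    List.mem_cons, List.not_mem_nil, or_false] at hp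
  rcases hp with rfl | rfl | rfl | rfl | rfl | rfl <;> simp

theorem simple_vals : chevF4.simple 0 = 33 ∧ chevF4.simple 1 = 27 ∧ chevF4.simple 2 = 25 ∧
    chevF4.simple 3 = 24 ∧ chevF4.neg 33 = 14 ∧ chevF4.neg 27 = 20 ∧ chevF4.neg 25 = 22 ∧
    chevF4.neg 24 = 23 := by decide +kernel

theorem cartan_vals :
    (chevF4.cartan 0 39 = 0 ∧ chevF4.cartan 1 39 = -1 ∧ chevF4.cartan 2 39 = 1 ∧ chevF4.cartan 3 39 = 0) ∧
    (chevF4.cartan 0 45 = 0 ∧ chevF4.cartan 1 45 = 2 ∧ chevF4.cartan 2 45 = -1 ∧ chevF4.cartan 3 45 = 0) ∧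
    (chevF4.cartan 0 47 = 0 ∧ chevF4.cartan 1 47 = 0 ∧ chevF4.cartan 2 47 = 0 ∧ chevF4.cartan 3 47 = 1) ∧
    (chevF4.cartan 0 44 = 1 ∧ chevF4.cartan 1 44 = 0 ∧ chevF4.cartan 2 44 = 0 ∧ chevF4.cartan 3 44 = 0) := by
  decide +kernel

/-- (CB1) -/
theorem cent_borel1 (x : GL chevF4.Idx F) (hx : x ∈ chevF4.borelSubgroup F)
    (hxv : x * ev A1 (c1 : ℕ → F) = ev A1 c1 * x) : x ∈ R1 F := by
  obtain ⟨u, hu, h, hh, rfl⟩ := borel_decomp x hx
  obtain ⟨χ, c, hχ0, hc0, hcj, hχc, hw⟩ := torus_data h hh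
  obtain ⟨t, rfl⟩ := pos_eq_ev u hu
  have huR : ev chevF4.posRoots t ∈ R1 F :=
    Subgroup.mem_sup_left (Subgroup.mem_sup_left hu)
  refine Subgroup.mul_mem _ huR ?_
  have e1 := ev_comm1 chevF4.posRoots pos_mem_posRoots t (c1 : ℕ → F)
  have e2 := diag_ev h χ hcj A1 (by decide) (c1 : ℕ → F)
  have e3 : ev A1 (fun r => χ r * (c1 : ℕ → F) r) = ev A1 c1 := by
    have : ev chevF4.posRoots t * (ev A1 (fun r => χ r * (c1 : ℕ → F) r) * h) =
        ev chevF4.posRoots t * (ev A1 c1 * h) := by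
      rw [← e2, ← mul_assoc, ← mul_assoc, hxv, ← mul_assoc, ← e1]
    exact mul_right_cancel (mul_left_cancel this)
  have h4 := ev_inj A1 (by decide) _ _ pos_A1' comm_A1 e3
  have h44 := h4 44 (by decide)
  have h47 := h4 47 (by decide)
  simp only [c1] at h44 h47
  norm_num at h44 h47
  obtain ⟨-, -, ⟨a0, a1, a2, a3⟩, ⟨b0, b1, b2, b3⟩⟩ := cartan_vals
  have hc3 : c 3 = 1 := by
    have := hχc 47 (by norm_num)
    rw [h47] at this
    simp only [Finset.prod_range_succ, Finset.prod_range_zero, a0, a1, a2, a3, zpow_zero, zpow_one,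
      one_mul] at this
    exact this.symm
  have hc0' : c 0 = 1 := by
    have := hχc 44 (by norm_num)
    rw [h44] at this
    simp only [Finset.prod_range_succ, Finset.prod_range_zero, b0, b1, b2, b3, zpow_zero, zpow_one,
      one_mul, mul_one] at this
    exact this.symm
  obtain ⟨s0, s1, s2, s3, n0, n1, n2, n3⟩ := simple_vals
  rw [hw]
  apply wordGL_flatMap_mem
  intro i hi
  rw [List.mem_range] at hi
  interval_cases i
  · rw [hc0', hWordGL_one chevF4 hF4 _ (by rw [s0]; decide)]; exact Subgroup.one_mem _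
  · apply wordGL_mem_of
    intro p hp
    rcases hWord_letters 1 _ p hp with h1 | h1
    · rw [h1, s1]; exact xGL_mem_R1_pos 27 (by decide +kernel) _
    · rw [h1, s1, n1]; exact xGL_mem_R1_20 _
  · apply wordGL_mem_of
    intro p hp
    rcases hWord_letters 2 _ p hp with h1 | h1
    · rw [h1, s2]; exact xGL_mem_R1_pos 25 (by decide +kernel) _
    · rw [h1, s2, n2]; exact xGL_mem_R1_22 _
  · rw [hc3, hWordGL_one chevF4 hF4 _ (by rw [s3]; decide)]; exact Subgroup.one_mem _

theorem act2_id (s : ℕ) (hs : s ∈ [28, 29, 30, 31, 32, 35, 36, 37, 38, 39, 40, 41, 42, 43, 44, 45, 46, 47])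
    (a : F) (c : ℕ → F) : act2 s a c = c := by
  simp only [List.mem_cons, List.not_mem_nil, or_false] at hs
  rcases hs with rfl | rfl | rfl | rfl | rfl | rfl | rfl | rfl | rfl | rfl | rfl | rfl | rfl | rfl | rfl |
    rfl | rfl | rfl <;> simp [act2]

theorem act2_27 (a : F) (c : ℕ → F) : act2 27 a c = Function.update c 40 (c 40 + a * c 39) := by
  simp [act2]
theorem act2_33 (a : F) (c : ℕ → F) : act2 33 a c = Function.update c 44 (c 44 + a * c 40) := by
  simp [act2]
theorem act2_34 (a : F) (c : ℕ → F) : act2 34 a c = Function.update c 44 (c 44 + a * c 39) := by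
  simp [act2]
theorem act2_25 (a : F) (c : ℕ → F) : act2 25 a c = Function.update c 46 (c 46 + a * c 45) := by
  simp [act2]
theorem act2_26 (a : F) (c : ℕ → F) : act2 26 a c = Function.update c 47 (c 47 + a * c 45) := by
  simp [act2]
theorem act2_24 (a : F) (c : ℕ → F) : act2 24 a c = Function.update c 47 (c 47 + a * c 46) := by
  simp [act2]

theorem push2_eq (t c : ℕ → F) :
    push2 chevF4.posRoots t c =
      act2 24 (t 24) (act2 25 (t 25) (act2 26 (t 26) (act2 27 (t 27) (act2 33 (t 33)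
        (act2 34 (t 34) c))))) := by
  rw [posRoots_eq]
  simp only [push2, List.range', List.foldr]
  rw [act2_id 47 (by decide), act2_id 46 (by decide), act2_id 45 (by decide), act2_id 44 (by decide),
    act2_id 43 (by decide), act2_id 42 (by decide), act2_id 41 (by decide), act2_id 40 (by decide),
    act2_id 39 (by decide), act2_id 38 (by decide), act2_id 37 (by decide), act2_id 36 (by decide),
    act2_id 35 (by decide), act2_id 32 (by decide), act2_id 31 (by decide), act2_id 30 (by decide),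
    act2_id 29 (by decide), act2_id 28 (by decide)]

/-- the coefficients after pushing `ev A2 c` through the ordered product over all positive roots -/
theorem push2_vals (t c : ℕ → F) (h40 : c 40 = 0) (h44 : c 44 = 0) (h46 : c 46 = 0) (h47 : c 47 = 0) :
    push2 chevF4.posRoots t c 39 = c 39 ∧ push2 chevF4.posRoots t c 40 = t 27 * c 39 ∧
    push2 chevF4.posRoots t c 44 = t 34 * c 39 ∧ push2 chevF4.posRoots t c 45 = c 45 ∧
    push2 chevF4.posRoots t c 46 = t 25 * c 45 ∧
    push2 chevF4.posRoots t c 47 = t 26 * c 45 + t 24 * (t 25 * c 45) := by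
  rw [push2_eq, act2_34, act2_33, act2_27, act2_26, act2_25, act2_24]
  simp [Function.update_apply, h40, h44, h46, h47]

/-- (CB2) -/
theorem cent_borel2 (x : GL chevF4.Idx F) (hx : x ∈ chevF4.borelSubgroup F)
    (hxv : x * ev A2 (c2 : ℕ → F) = ev A2 c2 * x) : x ∈ R2 F := by
  obtain ⟨u, hu, h, hh, rfl⟩ := borel_decomp x hx
  obtain ⟨χ, c, hχ0, hc0, hcj, hχc, hw⟩ := torus_data h hh
  obtain ⟨t, rfl⟩ := pos_eq_ev u hu
  set d : ℕ → F := fun r => χ r * (c2 : ℕ → F) r with hd
  have e2 := diag_ev h χ hcj A2 (by decide) (c2 : ℕ → F)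
  have e1 := ev_push2 chevF4.posRoots pos_mem_posRoots t d
  have e3 : ev A2 (push2 chevF4.posRoots t d) = ev A2 c2 := by
    have : ev A2 (push2 chevF4.posRoots t d) * (ev chevF4.posRoots t * h) =
        ev A2 c2 * (ev chevF4.posRoots t * h) := by
      rw [← hxv, ← mul_assoc, ← e1, mul_assoc, mul_assoc, e2]
    exact mul_right_cancel this
  have h4 := ev_inj A2 (by decide) _ _ pos_A2' comm_A2 e3
  have hd40 : d 40 = 0 := by simp [hd, c2]
  have hd44 : d 44 = 0 := by simp [hd, c2]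
  have hd46 : d 46 = 0 := by simp [hd, c2]
  have hd47 : d 47 = 0 := by simp [hd, c2]
  have hd39 : d 39 = χ 39 := by simp [hd, c2]
  have hd45 : d 45 = χ 45 := by simp [hd, c2]
  obtain ⟨v39, v40, v44, v45, v46, v47⟩ := push2_vals t d hd40 hd44 hd46 hd47
  have k39 := h4 39 (by decide)
  have k40 := h4 40 (by decide)
  have k44 := h4 44 (by decide)
  have k45 := h4 45 (by decide)
  have k46 := h4 46 (by decide)
  have k47 := h4 47 (by decide)
  rw [v39, hd39] at k39
  rw [v40, hd39] at k40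
  rw [v44, hd39] at k44
  rw [v45, hd45] at k45
  rw [v46, hd45] at k46
  rw [v47, hd45] at k47
  have k39' : χ 39 = 1 := by simpa [c2] using k39
  have k45' : χ 45 = 1 := by simpa [c2] using k45
  rw [k39', mul_one] at k40 k44
  rw [k45', mul_one] at k46
  rw [k45', mul_one] at k47
  have k40' : t 27 = 0 := by simpa [c2] using k40
  have k44' : t 34 = 0 := by simpa [c2] using k44
  have k46' : t 25 = 0 := by simpa [c2] using k46
  have k47' : t 26 = 0 := by
    rw [k46'] at k47
    simpa [c2] using k47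
  -- the unipotent part
  have huR : ev chevF4.posRoots t ∈ R2 F := by
    unfold ev
    apply Subgroup.list_prod_mem
    intro y hy
    obtain ⟨r, hr, rfl⟩ := List.mem_map.mp hy
    have hrp := pos_mem_posRoots r hr
    by_cases hn : r ∈ [27, 25, 34, 26]
    · simp only [List.mem_cons, List.not_mem_nil, or_false] at hn
      rcases hn with rfl | rfl | rfl | rfl
      · rw [k40', xGL_zero]; exact Subgroup.one_mem _
      · rw [k46', xGL_zero]; exact Subgroup.one_mem _
      · rw [k44', xGL_zero]; exact Subgroup.one_mem _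
      · rw [k47', xGL_zero]; exact Subgroup.one_mem _
    · exact xGL_mem_R2_pos r hrp hn _
  refine Subgroup.mul_mem _ huR ?_
  -- the torus part
  obtain ⟨⟨a0, a1, a2, a3⟩, ⟨b0, b1, b2, b3⟩, -, -⟩ := cartan_vals
  have hc12 : c 2 = c 1 := by
    have := hχc 39 (by norm_num)
    rw [k39'] at this
    simp only [Finset.prod_range_succ, Finset.prod_range_zero, a0, a1, a2, a3, zpow_zero, zpow_one,
      one_mul, mul_one, zpow_neg] at this
    have h1 : c 1 ≠ 0 := hc0 1
    field_simp at this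
    exact this.symm
  have hc1 : c 1 = 1 := by
    have := hχc 45 (by norm_num)
    rw [k45'] at this
    simp only [Finset.prod_range_succ, Finset.prod_range_zero, b0, b1, b2, b3, zpow_zero, zpow_one,
      one_mul, mul_one, zpow_neg] at this
    rw [hc12] at this
    have h1 : c 1 ≠ 0 := hc0 1
    have h2 : (c 1 : F) ^ (2 : ℤ) = c 1 * c 1 := by
      rw [zpow_ofNat]; ring
    rw [h2, mul_assoc, mul_inv_cancel₀ h1, mul_one] at this
    exact this.symm
  have hc2 : c 2 = 1 := by rw [hc12, hc1]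
  obtain ⟨s0, s1, s2, s3, n0, n1, n2, n3⟩ := simple_vals
  rw [hw]
  apply wordGL_flatMap_mem
  intro i hi
  rw [List.mem_range] at hi
  interval_cases i
  · apply wordGL_mem_of
    intro p hp
    rcases hWord_letters 0 _ p hp with h1 | h1
    · rw [h1, s0]; exact xGL_mem_R2_pos 33 (by decide +kernel) (by decide) _
    · rw [h1, s0, n0]; exact xGL_mem_R2_14 _
  · rw [hc1, hWordGL_one chevF4 hF4 _ (by rw [s1]; decide)]; exact Subgroup.one_mem _
  · rw [hc2, hWordGL_one chevF4 hF4 _ (by rw [s2]; decide)]; exact Subgroup.one_mem _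
  · apply wordGL_mem_of
    intro p hp
    rcases hWord_letters 3 _ p hp with h1 | h1
    · rw [h1, s3]; exact xGL_mem_R2_pos 24 (by decide +kernel) (by decide) _
    · rw [h1, s3, n3]; exact xGL_mem_R2_23 _

end Char2

end Cfsg.Agent.Helper36.F4MixAlt
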